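import Cfsg.Agent.H704.EnumP
import Cfsg.Agent.H704.LowDegree
import Cfsg.Agent.H417.JOneDeg
import Cfsg.Agent.H724.IMJOne

/-!
# S4906: the degrees of `J1` are not all degrees of `S_n`
-/

set_option autoImplicit false

universe u

namespace Cfsg.Agent.H107.DS

open Cfsg Cfsg.Agent.H704

/-- degrees -/
theorem charDegree_cast {G : Type u} [Group G] [Finite G] {χ : G → ℂ} (hχ : IsIrrCharacter G χ) :
    χ 1 = (charDegree χ : ℂ) := by
  obtain ⟨d, -, h⟩ := Characters.Core.isIrr_apply_one hχ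
  rw [h]
  congr 1
  unfold charDegree
  rw [h, Complex.natCast_re, Nat.floor_natCast]

/-- `209` is no degree of `S_n`, `19 ≤ n ≤ 21` -/
theorem no_209 {n : ℕ} (h1 : 19 ≤ n) (h2 : n ≤ 21) : ¬ IsDeg n 209 := by
  intro h
  have key : ∀ (n E : ℕ) (_ : n = 17 + E)
      (_ : goP E (fun H => (fun d => !(Nat.beq d 209)) (Nat.div n.factorial H)) (n + 1) n 1 [] 1 = true),
      ¬ IsDeg n 209 := by
    intro n E hE hg hd
    have := check_of_isDegP (chk := fun d => !(Nat.beq d 209)) (r := 17) (by norm_num) (by omega) hE hg hd (by norm_num)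
    exact absurd this (by decide)
  interval_cases n
  · exact key 19 2 rfl (by decide +kernel) h
  · exact key 20 3 rfl (by decide +kernel) h
  · exact key 21 4 rfl (by decide +kernel) h

/-- **Row `J1`** -/
theorem j1_aux {K : Type u} [Group K] [Finite K] (h : Spor.IsoJ1 K) {n : ℕ}
    (hd : ∀ ψ : K → ℂ, IsIrrCharacter K ψ → ∃ d : ℕ, IsDeg n d ∧ ψ 1 = d) : False := by
  obtain ⟨⟨⟨χ, hχ⟩, hmax⟩, hc⟩ := H417.JOneDeg.greatest h
  have hdeg : ∀ ψ : IrrCharacter K, IsDeg n (charDegree (ψ : K → ℂ)) := by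
    intro ψ
    obtain ⟨d, h1, h2⟩ := hd ψ ψ.2
    rw [charDegree_cast ψ.2] at h2
    rw [show charDegree (ψ : K → ℂ) = d by exact_mod_cast h2]
    exact h1
  have h209 : IsDeg n 209 := by
    rw [← hχ]
    exact hdeg χ
  have : Fact (Nat.Prime 2) := ⟨Nat.prime_two⟩
  obtain ⟨ψ, hψ⟩ := H724.IMJOne.im_j1 h (p := 2) (by rw [hc]; norm_num)
  have hψd := hdeg ψ
  have hψm : charDegree (ψ : K → ℂ) ≤ 209 := hmax ⟨ψ, rfl⟩
  obtain ⟨e, he⟩ : ∃ e, e = charDegree (ψ : K → ℂ) := ⟨_, rfl⟩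
  rw [← he] at hψ hψd hψm
  have h19 : 19 ≤ n := by
    obtain ⟨l, -, hl⟩ := h209
    have h1 : 19 ∣ n.factorial := by
      rw [← hl]
      exact dvd_mul_of_dvd_left (by norm_num) _
    exact ((by norm_num : Nat.Prime 19).dvd_factorial).1 h1
  rcases low_degree (by omega) h209 with h1 | h1 | h1
  · omega
  · have hn : n = 210 := by omega
    subst hn
    rcases low_degree (by norm_num) hψd with h2 | h2 | h2
    · omega
    · omega
    · omega
  · have hn : n ≤ 22 := by
      by_contra hcon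
      obtain ⟨v, rfl⟩ : ∃ v, n = 23 + v := ⟨n - 23, by omega⟩
      have h2 : (23 + v) * (23 + v - 3) = (23 + v) * (20 + v) := by congr 1; omega
      rw [h2] at h1
      nlinarith
    by_cases hn' : n ≤ 21
    · exact no_209 h19 hn' h209
    · have hn2 : n = 22 := by omega
      subst hn2
      rcases low_degree (by norm_num) hψd with h2 | h2 | h2
      · omega
      · omega
      · have h3 : e = 209 := by omega
        rw [h3] at hψ
        exact absurd hψ (by norm_num)

/-- **Row `J1`** (the hypothesis is `H704.SubDeg n K`) -/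
theorem row_j1 {K : Type u} [Group K] [Finite K] (h : Spor.IsoJ1 K) {n : ℕ} (_ : 5 ≤ n)
    (hd : ∀ ψ : K → ℂ, IsIrrCharacter K ψ → ∃ d : ℕ, IsDeg n d ∧ ψ 1 = d) : False :=
  j1_aux h hd

end Cfsg.Agent.H107.DS
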